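import Groth.Agent.Sga7.H379.Mon
import Groth.Agent.Sga7.H180.RootRing
import Groth.Agent.Sga7.H198.UBcn
import Groth.Agent.Sga7.H763.Pt

/-!
# Acyclicity of the tower of roots over the complement of the coordinate hyperplanes

`A` a strictly henselian local `k`-algebra, `T i` finitely many elements of its maximal ideal:
`hpt_tower`: `Spec A ×_{k[ℕ^C]} k[ℚ^C]` has the cohomology of a point, if `D ℚ ⟶ D ℚ≥0` is acyclic and
base change holds universally along `Spec A ⟶ k[ℕ^C]`, `D ℚ ⟶ Spec k` and `D ℚ≥0 ⟶ Spec k`.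
-/

set_option autoImplicit false
set_option linter.unusedSectionVars false
universe u

open CategoryTheory CategoryTheory.Limits AlgebraicGeometry IsLocalRing
open scoped NNRat

namespace Groth.Agent.Sga7.H379.LogAcyc

open Groth.Agent.Sga7.H763 Groth.Agent.Sga7.H763.Dia Groth.Agent.Sga7.H763.ToD
open Groth.Agent.Sga7.H379.Mon Groth.Agent.Sga7.H198.UBcn
open Groth.Agent.Sga4h.StalkAcyc Groth.Agent.Sga4h.Acyc

variable {C : Type} [DecidableEq C]

section Mon

theorem subsingleton_empty (S : Finset C) : Subsingleton (MM ∅ S) := by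
  refine ⟨fun a b => Subtype.ext (funext fun i => ?_)⟩
  rw [(a.2 i).1 (Finset.notMem_empty i), (b.2 i).1 (Finset.notMem_empty i)]

variable [Fintype C]

/-- `ℕ^C ⟶ MM univ S`. -/
def ph (S : Finset C) : (C → ℕ) →+ MM Finset.univ S where
  toFun m := ⟨fun i => m i, fun i => ⟨fun h => absurd (Finset.mem_univ i) h, fun _ => Nat.cast_nonneg _⟩⟩
  map_zero' := Subtype.ext (funext fun _ => Nat.cast_zero)
  map_add' _ _ := Subtype.ext (funext fun _ => Nat.cast_add _ _)

@[simp] theorem ph_val (S : Finset C) (m : C → ℕ) (i : C) : (ph S m : C → ℚ) i = m i := rfl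

theorem inc_ph {S S' : Finset C} (h : S ⊆ S') :
    (inc (Finset.Subset.refl Finset.univ) h).comp (ph S) = ph S' := rfl

/-- `MM univ univ = C → ℚ`. -/
def eqv : MM (Finset.univ : Finset C) Finset.univ ≃+ (C → ℚ) where
  toFun f := f
  invFun f := ⟨f, fun i => ⟨fun h => absurd (Finset.mem_univ i) h,
    fun h => absurd (Finset.mem_univ i) h⟩⟩
  left_inv _ := rfl
  right_inv _ := rfl
  map_add' _ _ := rfl

theorem eqv_ph : (eqv (C := C)).toAddMonoidHom.comp (ph Finset.univ) =
    (Nat.castAddMonoidHom ℚ).compLeft C := rfl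

theorem ph_sharp (a b : MM (Finset.univ : Finset C) ∅) (h : a + b = 0) : a = 0 := by
  refine Subtype.ext (funext fun i => ?_)
  have h1 : (a : C → ℚ) i + (b : C → ℚ) i = 0 := congrFun (congrArg Subtype.val h) i
  have h2 := (a.2 i).2 (Finset.notMem_empty i)
  have h3 := (b.2 i).2 (Finset.notMem_empty i)
  change (a : C → ℚ) i = 0
  linarith

theorem ph_eq_zero (S : Finset C) (m : C → ℕ) (h : ph S m = 0) : m = 0 := by
  funext i
  have h1 : ((m i : ℕ) : ℚ) = 0 := congrFun (congrArg Subtype.val h) i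
  exact_mod_cast h1

theorem ph_denom (f : MM (Finset.univ : Finset C) ∅) : ∃ N : ℕ, 0 < N ∧ ∃ m, ph ∅ m = N • f := by
  obtain ⟨N, m, hN, hm⟩ := Groth.Agent.Sga7.H180.RootLoc.exists_denom
    (fun i => (⟨(f : C → ℚ) i, (f.2 i).2 (Finset.notMem_empty i)⟩ : ℚ≥0))
  refine ⟨N, hN, m, Subtype.ext (funext fun i => ?_)⟩
  have h1 : ((m i : ℕ) : ℚ≥0) = N • (⟨(f : C → ℚ) i, (f.2 i).2 (Finset.notMem_empty i)⟩ : ℚ≥0) :=
    congrFun hm i
  have h2 := congrArg (fun q : ℚ≥0 => (q : ℚ)) h1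
  simp only [NNRat.cast_natCast, nsmul_eq_mul] at h2
  change ((m i : ℕ) : ℚ) = ((N • f : MM (Finset.univ : Finset C) ∅) : C → ℚ) i
  rw [h2, AddSubmonoidClass.coe_nsmul, Pi.smul_apply, nsmul_eq_mul]
  rfl

end Mon

section UB

/-- `UBcn` as a structure. -/
structure UB (n : ℕ) {P P' : Scheme.{u}} (g : P' ⟶ P) : Prop where
  out : ∀ (Q' Q : Scheme.{u}) (h : Q ⟶ P) (g' : Q' ⟶ Q) (h' : Q' ⟶ P'), IsPullback h' g' g h →
    BCn.Bcn n g'

variable {n : ℕ} {P P' P'' : Scheme.{u}}

theorem UB.of {g : P' ⟶ P} (h : UBcn n g) : UB n g := ⟨fun _ _ a g' a' sq => h a g' a' sq⟩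

theorem UB.ubcn {g : P' ⟶ P} (h : UB n g) : UBcn n g := fun a g' a' sq => h.out _ _ a g' a' sq

theorem UB.bcn {g : P' ⟶ P} (h : UB n g) : BCn.Bcn n g :=
  h.out _ _ (𝟙 P) g (𝟙 P') IsPullback.of_id_fst

theorem UB.of_isPullback {g : P' ⟶ P} (hg : UB n g) {Q' Q : Scheme.{u}} {h : Q ⟶ P}
    {g' : Q' ⟶ Q} {h' : Q' ⟶ P'} (sq : IsPullback h' g' g h) : UB n g' :=
  ⟨fun _ _ a g'' a' sq' => hg.out _ _ (a ≫ h) g'' (a' ≫ h') (sq'.paste_horiz sq)⟩

theorem UB.comp {h : P'' ⟶ P'} {g : P' ⟶ P} (hh : UB n h) (hg : UB n g) : UB n (h ≫ g) :=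
  UB.of (@UBcn.comp _ _ _ n h g hh.ubcn hg.ubcn)

variable (k : Type u) [Field k]

theorem ub_iso {X Y : Scheme.{u}} (g : X ⟶ Y) [IsIso g] (h : UB n (𝟙 Y)) : UB n g := by
  have : IsPullback g g (𝟙 Y) (𝟙 Y) := IsPullback.of_vert_isIso ⟨by simp⟩
  exact h.of_isPullback this

/-- Base change holds universally along the structure morphisms. -/
theorem ub_str (h1 : UB n (𝟙 (Spec (CommRingCat.of k)))) (hQ : UB n (str k ℚ))
    (hQ0 : UB n (str k ℚ≥0)) (T S : Finset C) : UB n (str k (MM T S)) := by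
  induction T using Finset.strongInduction with
  | H T ih =>
    rcases T.eq_empty_or_nonempty with rfl | ⟨i, hi⟩
    · have := subsingleton_empty (C := C) S
      exact ub_iso _ h1
    · have h3 := ih (T.erase i) (Finset.erase_ssubset hi)
      by_cases hS : i ∈ S
      · have h2 := hQ.of_isPullback (isPullback_coordQ k (T := T) (S := S) i hi hS)
        have := h2.comp h3
        rwa [Dm_str] at this
      · have h2 := hQ0.of_isPullback (isPullback_coord k (T := T) (S := S) i hi hS)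
        have := h2.comp h3
        rwa [Dm_str] at this

theorem ub_sp (h1 : UB n (𝟙 (Spec (CommRingCat.of k)))) (hQ : UB n (str k ℚ))
    (hQ0 : UB n (str k ℚ≥0)) {T S : Finset C} (i : C) (hT : i ∈ T) (hS : i ∉ S) :
    UB n (Dm k (sp (S := S) i hT)) :=
  (ub_str k h1 hQ hQ0 (T.erase i) S).of_isPullback (isPullback_coord k i hT hS).flip

end UB

section Main

variable (k : Type u) [Field k] {A : Type u} [CommRing A] [Algebra k A] [Fintype C] (T : C → A) {n : ℕ}

/-- The stages. -/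
noncomputable abbrev XS (S : Finset C) : Scheme.{u} := pullback (toD k (mpw T)) (Dm k (ph S))

/-- The step. -/
theorem hpt_step (hJ : Acyc (Dm k cq) (EtCoh.const (D k ℚ≥0) (ZMod n)))
    (h1 : UB n (𝟙 (Spec (CommRingCat.of k)))) (hQ : UB n (str k ℚ))
    (hQ0 : UB n (str k ℚ≥0)) (hA : UB n (toD k (mpw T))) (S : Finset C) (i : C) (hi : i ∉ S)
    (h : HPt (XS k T S) n) : HPt (XS k T (insert i S)) n := by
  have e : Dm k (inc (Finset.Subset.refl Finset.univ) (Finset.subset_insert i S)) ≫ Dm k (ph S) =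
      Dm k (ph (insert i S)) := by
    rw [Dm_comp, inc_ph]
  have s0 := IsPullback.of_hasPullback (toD k (mpw T)) (Dm k (ph S))
  have s1 := IsPullback.of_hasPullback (toD k (mpw T)) (Dm k (ph (insert i S)))
  let r : XS k T (insert i S) ⟶ XS k T S := pullback.lift (pullback.fst _ _)
    (pullback.snd _ _ ≫ Dm k (inc (Finset.Subset.refl Finset.univ) (Finset.subset_insert i S)))
    (by rw [Category.assoc, e, pullback.condition])
  have r1 : r ≫ pullback.fst _ _ = pullback.fst _ _ := pullback.lift_fst _ _ _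
  have r2 : r ≫ pullback.snd (toD k (mpw T)) (Dm k (ph S)) =
      pullback.snd (toD k (mpw T)) (Dm k (ph (insert i S))) ≫
        Dm k (inc (Finset.Subset.refl Finset.univ) (Finset.subset_insert i S)) := pullback.lift_snd _ _ _
  have s2 : IsPullback r (pullback.snd (toD k (mpw T)) (Dm k (ph (insert i S))))
      (pullback.snd (toD k (mpw T)) (Dm k (ph S)))
      (Dm k (inc (Finset.Subset.refl Finset.univ) (Finset.subset_insert i S))) := by
    refine IsPullback.of_right ?_ r2 s0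
    rw [r1, e]
    exact s1
  have s3 := (s2.flip.paste_horiz
    (isPullback_step k (T := Finset.univ) (S := S) i (Finset.mem_univ i) hi).flip)
  have hU : UB n (pullback.snd (toD k (mpw T)) (Dm k (ph S))) := hA.of_isPullback s0
  have hU' := hU.comp (ub_sp k h1 hQ hQ0 (T := Finset.univ) (S := S) i (Finset.mem_univ i) hi)
  exact Pt.hpt_of_hC (Pt.hC_baseChange hU'.bcn (Dm k cq) hJ r _ s3) h

/-- **Acyclicity of the tower.** -/
theorem hpt_tower [HenselianLocalRing A] [IsSepClosed (ResidueField A)]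
    (hT : ∀ i, T i ∈ maximalIdeal A)
    (hJ : Acyc (Dm k cq) (EtCoh.const (D k ℚ≥0) (ZMod n)))
    (h1 : UB n (𝟙 (Spec (CommRingCat.of k)))) (hQ : UB n (str k ℚ))
    (hQ0 : UB n (str k ℚ≥0)) (hA : UB n (toD k (mpw T))) :
    HPt (pullback (toD k (mpw T)) (Dm k ((Nat.castAddMonoidHom ℚ).compLeft C))) n := by
  have key : ∀ S : Finset C, HPt (XS k T S) n := by
    intro S
    induction S using Finset.induction_on with
    | empty =>
      exact Groth.Agent.Sga7.H180.RootRing.hpt_ring k A (mpw T) (ph ∅) ph_sharp (ph_eq_zero ∅)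
        (fun m hm => Groth.Agent.Sga7.H180.RootLoc.mem_mpw T hT hm) ph_denom n
    | insert i S hi ih => exact hpt_step k T hJ h1 hQ hQ0 hA S i hi ih
  have e : Dm k (eqv (C := C)).toAddMonoidHom ≫ Dm k (ph Finset.univ) =
      Dm k ((Nat.castAddMonoidHom ℚ).compLeft C) := by
    rw [Dm_comp, eqv_ph]
  have s1 := IsPullback.of_hasPullback (toD k (mpw T)) (Dm k (ph Finset.univ))
  have s2 := IsPullback.of_hasPullback (toD k (mpw T)) (Dm k ((Nat.castAddMonoidHom ℚ).compLeft C))
  let d : D k (C → ℚ) ≅ D k (MM (Finset.univ : Finset C) Finset.univ) := Diso k eqv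
  have hd : d.hom = Dm k (eqv (C := C)).toAddMonoidHom := rfl
  refine HPt.of_iso (asIso (pullback.map (toD k (mpw T)) (Dm k (ph Finset.univ)) (toD k (mpw T))
    (Dm k ((Nat.castAddMonoidHom ℚ).compLeft C)) (𝟙 _) d.inv (𝟙 _) (by simp) ?_)) (key Finset.univ)
  rw [← e, ← hd, Category.comp_id, Iso.inv_hom_id_assoc]

end Main

end Groth.Agent.Sga7.H379.LogAcyc
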