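import Groth.Agent.Sga7.H379.J1
import Groth.Agent.Sga7.H379.LogAcyc
import Groth.Agent.Sga7.H198.UBcnMain

/-!
# Acyclicity of the tower of roots

The scheme obtained from a strictly henselian regular local ring by inverting and extracting all the roots
of a part of a regular system of parameters has the cohomology of a point.
-/

set_option autoImplicit false
universe u

open CategoryTheory CategoryTheory.Limits AlgebraicGeometry
open scoped NNRat

namespace Groth.Agent.Sga7.H379.TowerMain

open Groth.Agent.Sga7.H763 Groth.Agent.Sga7.H763.Dia Groth.Agent.Sga7.H763.ToD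
open Groth.Agent.Sga7.H198.UBcn Groth.Agent.Sga7.H198.UBcnMain
open Groth.Agent.Sga4h.StalkAcyc Groth.Agent.Sga7.H379.LogAcyc

theorem tower (k : Type u) [Field k] [IsAlgClosed k] [CharZero k] (A : Type u) [CommRing A]
    [IsRegularLocalRing A] [HenselianLocalRing A] [IsSepClosed (IsLocalRing.ResidueField A)]
    [Algebra k A] (c d : ℕ) (T : Fin c → A) (S : Fin d → A)
    (hs : Ideal.span (Set.range T ∪ Set.range S) = IsLocalRing.maximalIdeal A)
    (hd : ringKrullDim A = ((c + d : ℕ) : WithBot ℕ∞)) (n : ℕ) (hn : 0 < n) :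
      HPt (pullback (toD k (mpw T)) (Dm k ((Nat.castAddMonoidHom ℚ).compLeft (Fin c)))) n := by
  have hT : ∀ i, T i ∈ IsLocalRing.maximalIdeal A := by
    intro i
    rw [← hs]
    exact Ideal.subset_span (Or.inl ⟨i, rfl⟩)
  have h1 : UB n (𝟙 (Spec (CommRingCat.of k))) := UB.of
    (@ubcn_of_smooth _ _ n (𝟙 (Spec (CommRingCat.of k))) inferInstance (isUnit_over (𝟙 _) hn))
  exact hpt_tower k T hT (Groth.Agent.Sga7.H379.J1.acyc_cq n hn.ne')
    h1 (UB.of (@ubcn_str_rat k _ _ n hn)) (UB.of (@ubcn_str_nnrat k _ _ n hn))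
    (UB.of (@ubcn_toD k _ _ n hn A _ _ _ c d T S hs hd))

end Groth.Agent.Sga7.H379.TowerMain
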