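import Groth.Agent.Sga7.H379.Mon
import Mathlib.AlgebraicGeometry.Morphisms.OpenImmersion
import Mathlib.RingTheory.Localization.Away.Basic
import Mathlib.Algebra.Order.Floor.Defs
import Mathlib.Data.Rat.Floor

/-!
# `k[ℚ≥0]` and `k[ℚ]`

* `D ℚ ⟶ D ℚ≥0` is the open immersion of the locus where `X` is invertible;
* there is only one point of `D ℚ≥0` where `X` vanishes.
-/

set_option autoImplicit false
universe u

open CategoryTheory CategoryTheory.Limits AlgebraicGeometry
open scoped NNRat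

namespace Groth.Agent.Sga7.H379.J1Ring

open Groth.Agent.Sga7.H763.Dia Groth.Agent.Sga7.H379.Mon

variable (k : Type u) [Field k]

/-- `X`. -/
noncomputable abbrev xx : AddMonoidAlgebra k ℚ≥0 := AddMonoidAlgebra.single 1 1

theorem rm_injective {M M' : Type} [AddCommMonoid M] [AddCommMonoid M'] (f : M →+ M')
    (hf : Function.Injective f) : Function.Injective (rm k f) :=
  AddMonoidAlgebra.mapDomain_injective hf

theorem xx_pow (n : ℕ) : xx k ^ n = AddMonoidAlgebra.single (n : ℚ≥0) 1 := by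
  rw [AddMonoidAlgebra.single_pow, one_pow, nsmul_eq_mul, mul_one]

theorem isLocalization : letI := (rm k cq).toAlgebra
    IsLocalization.Away (xx k) (AddMonoidAlgebra k ℚ) := by
  let _ := (rm k cq).toAlgebra
  have halg : ∀ x, algebraMap (AddMonoidAlgebra k ℚ≥0) (AddMonoidAlgebra k ℚ) x = rm k cq x :=
    fun _ => rfl
  refine ⟨?_, ?_, ?_⟩
  · rintro ⟨y, n, rfl⟩
    rw [halg]
    change IsUnit (rm k cq (xx k ^ n))
    rw [map_pow]
    refine IsUnit.pow n ?_
    rw [rm_single]
    refine IsUnit.of_mul_eq_one (AddMonoidAlgebra.single (-1) 1) ?_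
    rw [AddMonoidAlgebra.single_mul_single]
    change AddMonoidAlgebra.single ((1 : ℚ) + -1) (1 * 1) = _
    rw [add_neg_cancel, one_mul]
    rfl
  · intro z
    suffices h : ∃ (n : ℕ) (a : AddMonoidAlgebra k ℚ≥0), z * rm k cq (xx k ^ n) = rm k cq a by
      obtain ⟨n, a, h⟩ := h
      exact ⟨(a, ⟨_, n, rfl⟩), h⟩
    induction z using AddMonoidAlgebra.induction_linear with
    | zero => exact ⟨0, 0, by rw [zero_mul, map_zero]⟩
    | add z w hz hw =>
      obtain ⟨n, a, ha⟩ := hz
      obtain ⟨m, b, hb⟩ := hw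
      refine ⟨n + m, a * xx k ^ m + b * xx k ^ n, ?_⟩
      rw [pow_add, map_mul, map_add, map_mul, map_mul, ← ha, ← hb]
      ring
    | single q r =>
      obtain ⟨n, hn⟩ := exists_nat_ge (-q)
      refine ⟨n, AddMonoidAlgebra.single ⟨q + n, by linarith⟩ r, ?_⟩
      rw [xx_pow, rm_single, rm_single, AddMonoidAlgebra.single_mul_single, mul_one]
      congr 1
  · intro x y h
    exact ⟨1, by rw [rm_injective k cq NNRat.coe_injective h]⟩

instance isOpenImmersion_cq : IsOpenImmersion (Dm k cq) := by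
  let _ := (rm k cq).toAlgebra
  have := isLocalization k
  exact IsOpenImmersion.of_isLocalization (S := AddMonoidAlgebra k ℚ) (xx k)

/-- A point where `X` does not vanish is in the image. -/
theorem mem_range (y : D k ℚ≥0) (hy : xx k ∉ (show PrimeSpectrum (AddMonoidAlgebra k ℚ≥0) from y).asIdeal) :
    y ∈ Set.range (Dm k cq) := by
  let _ := (rm k cq).toAlgebra
  have := isLocalization k
  have h := PrimeSpectrum.localization_away_comap_range (AddMonoidAlgebra k ℚ) (xx k)
  have h1 : (show PrimeSpectrum (AddMonoidAlgebra k ℚ≥0) from y) ∈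
      (PrimeSpectrum.basicOpen (xx k) : Set (PrimeSpectrum (AddMonoidAlgebra k ℚ≥0))) := hy
  rw [← h] at h1
  exact h1

/-- The vanishing ideal of the origin is contained in every prime containing `X`. -/
theorem mem_of_coeff_zero (I : Ideal (AddMonoidAlgebra k ℚ≥0)) [I.IsPrime] (hx : xx k ∈ I) (q : ℚ≥0)
    (hq : q ≠ 0) (r : k) : AddMonoidAlgebra.single q r ∈ I := by
  have hq' : 0 < q := pos_iff_ne_zero.2 hq
  obtain ⟨n, hn⟩ := exists_nat_ge q⁻¹
  have h1 : 1 ≤ n • q := by
    rw [nsmul_eq_mul]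
    calc (1 : ℚ≥0) = q⁻¹ * q := (inv_mul_cancel₀ hq).symm
      _ ≤ n * q := mul_le_mul_of_nonneg_right hn zero_le
  have h2 : (AddMonoidAlgebra.single q r : AddMonoidAlgebra k ℚ≥0) ^ n ∈ I := by
    rw [AddMonoidAlgebra.single_pow]
    have : (AddMonoidAlgebra.single (n • q) (r ^ n) : AddMonoidAlgebra k ℚ≥0) =
        AddMonoidAlgebra.single (n • q - 1) (r ^ n) * xx k := by
      rw [AddMonoidAlgebra.single_mul_single, mul_one, tsub_add_cancel_of_le h1]
    rw [this]
    exact I.mul_mem_left _ hx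
  exact Ideal.IsPrime.mem_of_pow_mem inferInstance n h2

/-- The augmentation ideal is the only prime containing `X`. -/
theorem le_of_mem (I J : Ideal (AddMonoidAlgebra k ℚ≥0)) [I.IsPrime] [J.IsPrime] (hI : xx k ∈ I)
    (hJ : xx k ∈ J) : I ≤ J := by
  intro f hf
  -- `f - f 0 ∈ J` and `∈ I`
  have key : ∀ (K : Ideal (AddMonoidAlgebra k ℚ≥0)) [K.IsPrime], xx k ∈ K →
      ∀ f : AddMonoidAlgebra k ℚ≥0, ∃ c : k, (∀ L : Ideal (AddMonoidAlgebra k ℚ≥0), L.IsPrime →
        xx k ∈ L → f - AddMonoidAlgebra.single 0 c ∈ L) := by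
    intro K _ _ f
    induction f using AddMonoidAlgebra.induction_linear with
    | zero =>
      refine ⟨0, fun L _ _ => ?_⟩
      rw [AddMonoidAlgebra.single_zero, sub_zero]
      exact L.zero_mem
    | add f g hf hg =>
      obtain ⟨c, hc⟩ := hf
      obtain ⟨d, hd⟩ := hg
      refine ⟨c + d, fun L h1 h2 => ?_⟩
      rw [AddMonoidAlgebra.single_add, add_sub_add_comm]
      exact L.add_mem (hc L h1 h2) (hd L h1 h2)
    | single q r =>
      by_cases hq : q = 0
      · subst hq
        refine ⟨r, fun L _ _ => ?_⟩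
        rw [sub_self]
        exact L.zero_mem
      · refine ⟨0, fun L _ h2 => ?_⟩
        rw [AddMonoidAlgebra.single_zero, sub_zero]
        exact mem_of_coeff_zero k L h2 q hq r
  obtain ⟨c, hc⟩ := key I hI f
  have h1 : (AddMonoidAlgebra.single 0 c : AddMonoidAlgebra k ℚ≥0) ∈ I := by
    have := I.sub_mem hf (hc I inferInstance hI)
    rwa [sub_sub_cancel] at this
  have h2 : c = 0 := by
    by_contra h
    refine Ideal.IsPrime.ne_top (I := I) inferInstance (I.eq_top_of_isUnit_mem h1 ?_)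
    exact (isUnit_iff_ne_zero.2 h).map (algebraMap k (AddMonoidAlgebra k ℚ≥0))
  have h3 := hc J inferInstance hJ
  rwa [h2, AddMonoidAlgebra.single_zero, sub_zero] at h3

theorem eq_of_mem (y y' : D k ℚ≥0)
    (hy : xx k ∈ (show PrimeSpectrum (AddMonoidAlgebra k ℚ≥0) from y).asIdeal)
    (hy' : xx k ∈ (show PrimeSpectrum (AddMonoidAlgebra k ℚ≥0) from y').asIdeal) : y = y' := by
  apply PrimeSpectrum.ext
  exact le_antisymm (le_of_mem k _ _ hy hy') (le_of_mem k _ _ hy' hy)

end Groth.Agent.Sga7.H379.J1Ring
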