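import Groth.Agent.Sga7.H180.RootRing
import Groth.Agent.Sga7.H217.PuiseuxSq
import Groth.Agent.Sga4h.H545.StrictDvr
import Groth.Agent.Sga4h.SLocTrans88
import Groth.Agent.Sga7.H379.J1Ring
import Mathlib.FieldTheory.IsAlgClosed.AlgebraicClosure

/-!
# The inclusion `D ℚ ⟶ D ℚ≥0` is acyclic for constant coefficients

By Puiseux' theorem: the strict localization of `D ℚ≥0` at the origin is `Spec V ×_{D ℕ} D ℚ≥0`, `V` the
strict localization of the affine line at the origin, and its intersection with `D ℚ` is the spectrum of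
a separable closure of the field of fractions of `V`.
-/

set_option autoImplicit false
universe u

open CategoryTheory CategoryTheory.Limits AlgebraicGeometry IsLocalRing
open scoped NNRat Polynomial

namespace Groth.Agent.Sga7.H379.J1

open Groth.Agent.Sga7.H763.Dia Groth.Agent.Sga7.H763.ToD Groth.Agent.Sga7.H379.Mon
open Groth.Agent.Sga7.H379.J1Ring
open Groth.Agent.Sga4h.StalkAcyc Groth.Agent.Sga4h.Acyc Groth.Agent.Etrest.StrictLoc
open Groth.Agent.Sga4h.SLocTrans88

variable (k : Type u) [Field k]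

/-- A separably closed field has the cohomology of a point. -/
theorem hpt_field (Ω : Type u) [Field Ω] [IsSepClosed Ω] (n : ℕ) : HPt (Spec (CommRingCat.of Ω)) n := by
  have h : IsSepClosed (ResidueField Ω) :=
    Groth.Agent.Etrest.SHPoint.isSepClosed_of_ringEquiv (RingEquiv.ofBijective (residue Ω)
      ⟨(residue Ω).injective, residue_surjective⟩).symm
  exact Groth.Agent.Sga7.H180.RootLoc.hpt_spec Ω n

/-- The affine line as `D ℕ`. -/
noncomputable def lineIso : D k ℕ ≅ Spec (CommRingCat.of k[X]) :=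
  Scheme.Spec.mapIso (Polynomial.toFinsuppIso k).toCommRingCatIso.op

theorem lineIso_hom : (lineIso k).hom = Spec.map (CommRingCat.ofHom
    (Polynomial.toFinsuppIso k : k[X] →+* AddMonoidAlgebra k ℕ)) := rfl

theorem toD_lineIso {V : Type u} [CommRing V] [Algebra k V] [Algebra k[X] V] [IsScalarTower k k[X] V] :
    toD k (pw (algebraMap k[X] V Polynomial.X)) ≫ (lineIso k).hom = spm (algebraMap k[X] V) := by
  rw [toD, lineIso_hom]
  refine (Spec.map_comp _ _).symm.trans ?_
  rw [← CommRingCat.ofHom_comp, Groth.Agent.Sga7.H217.PuiseuxSq.mk_toFinsuppIso]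
  congr 2
  apply Polynomial.ringHom_ext
  · intro a
    refine (Polynomial.aeval_C _ a).trans ?_
    rw [IsScalarTower.algebraMap_apply k k[X] V]
    rfl
  · exact Polynomial.aeval_X _

variable {k}

/-- The strict localization of the affine line at the origin and Puiseux' theorem. -/
theorem exists_line [IsAlgClosed k] [CharZero k] :
    ∃ (V : Type u) (_ : CommRing V) (_ : HenselianLocalRing V) (_ : Algebra k V) (π : V) (Ω : Type u)
      (_ : Field Ω) (_ : IsSepClosed Ω) (a : Spec (CommRingCat.of Ω) ⟶ Spec (CommRingCat.of V))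
      (b : Spec (CommRingCat.of Ω) ⟶ D k ℚ), IsSepClosed (ResidueField V) ∧
      π ∈ maximalIdeal V ∧ WeaklyEtale (toD k (pw π)) ∧
      IsPullback a b (toD k (pw π)) (Dm k (Nat.castAddMonoidHom ℚ)) := by
  obtain ⟨V, _, _, _, _, _, _, _, hs, hloc, hinj, hirr, hbij, -⟩ :=
    Groth.Agent.Sga4h.H545.StrictDvr.exists_dvr k 0
  rw [map_zero, sub_zero] at hirr
  have hsep := hloc.sepClosed
  have hchar : CharZero (ResidueField V) :=
    charZero_of_injective_algebraMap (algebraMap k (ResidueField V)).injective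
  have hchar' : CharZero V := charZero_of_injective_algebraMap (algebraMap k V).injective
  let K := FractionRing V
  have : CharZero K := charZero_of_injective_algebraMap (IsFractionRing.injective V K)
  have : IsSepClosure K (AlgebraicClosure K) :=
    { sep_closed := inferInstance
      separable := inferInstance }
  obtain ⟨b, hb⟩ := Groth.Agent.Sga7.H217.PuiseuxSq.isPullback_puiseux V k
    (algebraMap k[X] V Polynomial.X) hirr K (AlgebraicClosure K)
  refine ⟨V, inferInstance, inferInstance, inferInstance, algebraMap k[X] V Polynomial.X,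
    AlgebraicClosure K, inferInstance, inferInstance, _, b, hsep,
    (mem_maximalIdeal _).2 hirr.not_isUnit, ?_, hb⟩
  have hwe : WeaklyEtale (spm (algebraMap k[X] V)) := weaklyEtale_of_isStrictLoc hloc
  have e : toD k (pw (algebraMap k[X] V Polynomial.X)) = spm (algebraMap k[X] V) ≫ (lineIso k).inv := by
    rw [← toD_lineIso k, Category.assoc, Iso.hom_inv_id, Category.comp_id]
  rw [e]
  infer_instance

variable (k) in
/-- Composition with a monomorphism. -/
theorem hpt_of_mem_range {R : Type u} [CommRing R] [IsLocalRing R]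
    {ξ : Spec (CommRingCat.of R) ⟶ D k ℚ≥0} (hξ : IsStrictLoc ξ)
    (h : ξ (closedPoint R) ∈ Set.range (Dm k cq)) (n : ℕ) : HPt (pullback (Dm k cq) ξ) n := by
  have := hξ.henselian
  have := hξ.sepClosed
  have hs : Surjective (pullback.snd (Dm k cq) ξ) := by
    rw [surjective_iff]
    have hr : Set.range (pullback.snd (Dm k cq) ξ) = Set.univ := by
      rw [Set.eq_univ_iff_forall]
      intro x
      have hop : IsOpen (Set.range (pullback.snd (Dm k cq) ξ)) :=
        (pullback.snd (Dm k cq) ξ).isOpenEmbedding.isOpen_range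
      refine (IsLocalRing.specializes_closedPoint (R := R) x).mem_open hop ?_
      obtain ⟨z, hz⟩ := h
      obtain ⟨w, -, hw⟩ := Scheme.Pullback.exists_preimage_pullback (f := Dm k cq) (g := ξ) z
        (closedPoint R) hz
      exact ⟨w, hw⟩
    exact Set.range_eq_univ.1 hr
  have : IsIso (pullback.snd (Dm k cq) ξ) :=
    (isIso_iff_isOpenImmersion_and_surjective _).2 ⟨inferInstance, hs⟩
  exact HPt.of_iso (asIso (pullback.snd (Dm k cq) ξ)).symm
    (Groth.Agent.Sga7.H180.RootLoc.hpt_spec R n)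

theorem cq_comp : cq.comp (Nat.castAddMonoidHom ℚ≥0) = Nat.castAddMonoidHom ℚ := by
  ext
  simp

theorem Dm_cq_comp : Dm k cq ≫ Dm k (Nat.castAddMonoidHom ℚ≥0) = Dm k (Nat.castAddMonoidHom ℚ) := by
  rw [Dm_comp, cq_comp]

/-- The strict localization at the origin. -/
theorem exists_origin [IsAlgClosed k] [CharZero k] (n : ℕ) :
    ∃ (B : Type u) (_ : CommRing B) (_ : IsLocalRing B) (ζ : Spec (CommRingCat.of B) ⟶ D k ℚ≥0),
      IsStrictLoc ζ ∧ xx k ∈ (show PrimeSpectrum (AddMonoidAlgebra k ℚ≥0) from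
        ζ (closedPoint B)).asIdeal ∧ HPt (pullback (Dm k cq) ζ) n := by
  obtain ⟨V, _, _, _, π, Ω, _, _, a, b, hsep, hπ, hwe, sq⟩ := exists_line (k := k)
  have hden : ∀ q : ℚ≥0, ∃ N : ℕ, 0 < N ∧ ∃ m, Nat.castAddMonoidHom ℚ≥0 m = N • q := fun q =>
    ⟨q.den, q.den_pos, q.num, by
      rw [nsmul_eq_mul, mul_comm, NNRat.mul_den_eq_num]
      rfl⟩
  obtain ⟨B, _, hl, hB, hBs, ⟨e⟩⟩ := Groth.Agent.Sga7.H180.RootRing.exists_ring k V (pw π)
    (Nat.castAddMonoidHom ℚ≥0) (fun a b h => (add_eq_zero.1 h).1)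
    (fun m h => Nat.cast_injective (R := ℚ≥0) (by simpa using h))
    (fun m hm => by
      rw [pw_ofAdd]
      exact Ideal.pow_mem_of_mem _ hπ _ (Nat.pos_of_ne_zero hm))
    hden
  let w : Spec (CommRingCat.of B) ⟶ D k ℚ≥0 :=
    e.inv ≫ pullback.snd (toD k (pw π)) (Dm k (Nat.castAddMonoidHom ℚ≥0))
  let v : Spec (CommRingCat.of B) ⟶ Spec (CommRingCat.of V) :=
    e.inv ≫ pullback.fst (toD k (pw π)) (Dm k (Nat.castAddMonoidHom ℚ≥0))
  have s1 : IsPullback v w (toD k (pw π)) (Dm k (Nat.castAddMonoidHom ℚ≥0)) :=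
    IsPullback.of_iso_pullback ⟨by
      rw [Category.assoc, Category.assoc, pullback.condition]⟩ e.symm rfl rfl
  have hw : WeaklyEtale w := MorphismProperty.of_isPullback (P := @WeaklyEtale) s1 hwe
  have h1 : IsStrictLoc w := by
    have := isStrictLoc_comp_of_weaklyEtale w hw (Groth.Agent.Sga4h.SLoc.isStrictLoc_id B)
    rwa [Category.id_comp] at this
  refine ⟨B, inferInstance, inferInstance, w, h1, ?_, ?_⟩
  · have hint : IsIntegralHom v := by
      have : IsIntegralHom (Dm k (Nat.castAddMonoidHom ℚ≥0)) := by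
        let _ := Groth.Agent.Sga7.H180.RootRing.algQ k (Nat.castAddMonoidHom ℚ≥0)
        have h2 := (Groth.Agent.Sga7.H180.RootRing.isIntegral_Q k (Nat.castAddMonoidHom ℚ≥0) hden).1
        exact IsIntegralHom.SpecMap_iff.2 h2
      exact MorphismProperty.of_isPullback (P := @IsIntegralHom) s1.flip this
    have hcl : IsClosed {closedPoint B} := (IsLocalRing.isClosed_singleton_closedPoint B)
    have hcl' : IsClosed (v '' {closedPoint B}) := v.isClosedMap _ hcl
    have hv : v (closedPoint B) = closedPoint V := by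
      obtain ⟨z, hz, hz'⟩ := (IsLocalRing.specializes_closedPoint (R := V)
        (v (closedPoint B))).mem_closed hcl' ⟨_, rfl, rfl⟩
      have hz1 : z = closedPoint B := hz
      rw [← hz', hz1]
    have hp : Dm k (Nat.castAddMonoidHom ℚ≥0) (w (closedPoint B)) = toD k (pw π) (closedPoint V) := by
      rw [← hv, ← Scheme.Hom.comp_apply, ← Scheme.Hom.comp_apply, s1.w]
    have hp' := congrArg PrimeSpectrum.asIdeal hp
    have h3 : (AddMonoidAlgebra.single 1 1 : AddMonoidAlgebra k ℕ) ∈
        (show PrimeSpectrum (AddMonoidAlgebra k ℕ) from toD k (pw π) (closedPoint V)).asIdeal := by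
      change mk k (algebraMap k V) (pw π) (AddMonoidAlgebra.single 1 1) ∈ maximalIdeal V
      rw [mk_single, map_one, one_mul, pw_ofAdd, pow_one]
      exact hπ
    have h4 : (AddMonoidAlgebra.single 1 1 : AddMonoidAlgebra k ℕ) ∈
        (show PrimeSpectrum (AddMonoidAlgebra k ℕ) from
          Dm k (Nat.castAddMonoidHom ℚ≥0) (w (closedPoint B))).asIdeal := by
      rw [hp]
      exact h3
    have h5 : rm k (Nat.castAddMonoidHom ℚ≥0) (AddMonoidAlgebra.single 1 1) ∈
        (show PrimeSpectrum (AddMonoidAlgebra k ℚ≥0) from w (closedPoint B)).asIdeal := h4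
    rw [rm_single] at h5
    simpa using h5
  · let l : Spec (CommRingCat.of Ω) ⟶ Spec (CommRingCat.of B) :=
      s1.lift a (b ≫ Dm k cq) (by rw [Category.assoc, Dm_cq_comp, sq.w])
    have l1 : l ≫ v = a := s1.lift_fst _ _ _
    have l2 : l ≫ w = b ≫ Dm k cq := s1.lift_snd _ _ _
    have e1 : IsPullback l b w (Dm k cq) := by
      refine IsPullback.of_right ?_ l2 s1
      rw [l1, Dm_cq_comp]
      exact sq
    exact HPt.of_iso (e1.flip.isoPullback) (hpt_field Ω n)

/-- **Acyclicity.** -/
theorem acyc_cq [IsAlgClosed k] [CharZero k] (n : ℕ) (hn : n ≠ 0) :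
    Acyc (Dm k cq) (EtCoh.const (D k ℚ≥0) (ZMod n)) := by
  refine acyc_const (Dm k cq) n hn fun y => ?_
  by_cases hy : xx k ∈ (show PrimeSpectrum (AddMonoidAlgebra k ℚ≥0) from y).asIdeal
  · obtain ⟨B, _, _, ζ, h1, h2, h3⟩ := exists_origin (k := k) n
    exact ⟨B, inferInstance, inferInstance, ζ, h1, eq_of_mem k _ _ h2 hy, h3⟩
  · obtain ⟨R, _, _, ξ, hξ, hξy⟩ := Groth.Agent.Sga4h.SLoc.exists_strictLoc (D k ℚ≥0) y
    refine ⟨R, inferInstance, inferInstance, ξ, hξ, hξy, hpt_of_mem_range k hξ ?_ n⟩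
    have : ξ (closedPoint R) = y := hξy
    rw [this]
    exact mem_range k y hy

end Groth.Agent.Sga7.H379.J1
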