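import Groth.Agent.Sga7.H763.Dia
import Mathlib.Algebra.Order.Ring.Rat
import Mathlib.Data.NNRat.Defs
import Mathlib.Data.Finset.Insert
import Mathlib.Algebra.Group.Pi.Lemmas
import Mathlib.Algebra.Group.Submonoid.Membership

/-!
# Monoids of rational exponents

`MM T S`: the functions `C ⟶ ℚ` vanishing outside `T` and nonnegative outside `S`.

* `isPullback_step`: for `i ∉ S`, `D (MM T (insert i S)) ⟶ D (MM T S)` is the base change of
  `D ℚ ⟶ D ℚ≥0` along the coordinate `i`;
* `isPullback_coord`: the coordinate `D (MM T S) ⟶ D ℚ≥0` is the base change of `D N ⟶ Spec k`;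
* `isPullback_splitQ`, `isPullback_splitQ0`.
-/

set_option autoImplicit false
set_option linter.unusedSectionVars false
universe u

open CategoryTheory CategoryTheory.Limits AlgebraicGeometry
open scoped NNRat

namespace Groth.Agent.Sga7.H379.Mon

open Groth.Agent.Sga7.H763.Dia

variable {C : Type} [DecidableEq C]

/-- The functions `C ⟶ ℚ` vanishing outside `T` and nonnegative outside `S`. -/
def MM (T S : Finset C) : AddSubmonoid (C → ℚ) where
  carrier := {f | ∀ i, (i ∉ T → f i = 0) ∧ (i ∉ S → 0 ≤ f i)}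
  add_mem' := by
    intro f g hf hg i
    refine ⟨fun h => ?_, fun h => ?_⟩
    · rw [Pi.add_apply, (hf i).1 h, (hg i).1 h, add_zero]
    · exact add_nonneg ((hf i).2 h) ((hg i).2 h)
  zero_mem' := fun i => ⟨fun _ => rfl, fun _ => le_rfl⟩

theorem mem_MM {T S : Finset C} {f : C → ℚ} :
    f ∈ MM T S ↔ ∀ i, (i ∉ T → f i = 0) ∧ (i ∉ S → 0 ≤ f i) := Iff.rfl

/-- The inclusions. -/
def inc {T T' S S' : Finset C} (hT : T ⊆ T') (hS : S ⊆ S') : MM T S →+ MM T' S' :=
  AddSubmonoid.inclusion (fun _ hf i => ⟨fun h => (hf i).1 (fun h' => h (hT h')),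
    fun h => (hf i).2 (fun h' => h (hS h'))⟩)

@[simp] theorem inc_val {T T' S S' : Finset C} (hT : T ⊆ T') (hS : S ⊆ S') (f : MM T S) :
    (inc hT hS f : C → ℚ) = f := rfl

/-- `q ↦ q e_i` on `ℚ≥0`. -/
def sp {T S : Finset C} (i : C) (hT : i ∈ T) : ℚ≥0 →+ MM T S where
  toFun q := ⟨Pi.single i (q : ℚ), fun j => by
    by_cases h : j = i
    · subst h
      exact ⟨fun h => absurd hT h, fun _ => by rw [Pi.single_eq_same]; exact q.2⟩
    · rw [Pi.single_eq_of_ne h]
      exact ⟨fun _ => rfl, fun _ => le_rfl⟩⟩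
  map_zero' := Subtype.ext (by simp)
  map_add' a b := Subtype.ext (by
    change Pi.single (M := fun _ => ℚ) i ((a + b : ℚ≥0) : ℚ) =
      Pi.single (M := fun _ => ℚ) i (a : ℚ) + Pi.single (M := fun _ => ℚ) i (b : ℚ)
    rw [NNRat.coe_add, Pi.single_add])

@[simp] theorem sp_val {T S : Finset C} (i : C) (hT : i ∈ T) (q : ℚ≥0) :
    (sp (S := S) i hT q : C → ℚ) = Pi.single i (q : ℚ) := rfl

/-- `q ↦ q e_i` on `ℚ`. -/
def sq {T S : Finset C} (i : C) (hT : i ∈ T) (hS : i ∈ S) : ℚ →+ MM T S where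
  toFun q := ⟨Pi.single i q, fun j => by
    by_cases h : j = i
    · subst h
      exact ⟨fun h => absurd hT h, fun h => absurd hS h⟩
    · rw [Pi.single_eq_of_ne h]
      exact ⟨fun _ => rfl, fun _ => le_rfl⟩⟩
  map_zero' := Subtype.ext (by simp)
  map_add' a b := Subtype.ext (Pi.single_add (f := fun _ => ℚ) i a b)

@[simp] theorem sq_val {T S : Finset C} (i : C) (hT : i ∈ T) (hS : i ∈ S) (q : ℚ) :
    (sq i hT hS q : C → ℚ) = Pi.single i q := rfl

theorem bij {A : Type} [AddCommMonoid A] {T T0 S S0 : Finset C} {i : C} (a : A →+ MM T S)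
    (b : MM T0 S0 →+ MM T S) (s : A → ℚ) (hs : Function.Injective s)
    (hr : ∀ q : ℚ, (i ∉ S → 0 ≤ q) → ∃ x, s x = q) (ha : ∀ x, (a x : C → ℚ) = Pi.single i (s x))
    (hb : ∀ f, (b f : C → ℚ) = f) (hT : T = insert i T0) (hi : i ∉ T0)
    (hS : ∀ j, j ≠ i → (j ∈ S0 ↔ j ∈ S)) :
    Function.Bijective (fun x : A × MM T0 S0 => a x.1 + b x.2) := by
  constructor
  · rintro ⟨x, f⟩ ⟨y, g⟩ h
    have h1 : Pi.single i (s x) + (f : C → ℚ) = Pi.single i (s y) + (g : C → ℚ) := by
      rw [← ha, ← ha, ← hb, ← hb]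
      exact congrArg Subtype.val h
    have h2 : s x = s y := by
      have h3 := congrFun h1 i
      rw [Pi.add_apply, Pi.add_apply, Pi.single_eq_same, Pi.single_eq_same,
        (f.2 i).1 hi, (g.2 i).1 hi, add_zero, add_zero] at h3
      exact h3
    obtain rfl := hs h2
    have h4 : (f : C → ℚ) = g := add_left_cancel h1
    rw [Subtype.ext h4]
  · intro f
    obtain ⟨x, hx⟩ := hr ((f : C → ℚ) i) (f.2 i).2
    have hmem : Function.update (f : C → ℚ) i 0 ∈ MM T0 S0 := by
      intro j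
      by_cases h : j = i
      · subst h
        rw [Function.update_self]
        exact ⟨fun _ => rfl, fun _ => le_rfl⟩
      · rw [Function.update_of_ne h]
        refine ⟨fun h' => (f.2 j).1 ?_, fun h' => (f.2 j).2 ?_⟩
        · rw [hT, Finset.mem_insert]
          exact fun h'' => h''.elim h h'
        · rwa [← hS j h]
    refine ⟨⟨x, ⟨Function.update (f : C → ℚ) i 0, hmem⟩⟩, ?_⟩
    apply Subtype.ext
    have h1 : ((a x : MM T S) : C → ℚ) + ((b ⟨_, hmem⟩ : MM T S) : C → ℚ) = f := by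
      rw [ha, hb]
      change Pi.single (M := fun _ => ℚ) i (s x) + Function.update (f : C → ℚ) i 0 = f
      funext j
      rw [Pi.add_apply]
      by_cases h : j = i
      · subst h
        rw [Pi.single_eq_same, Function.update_self, add_zero, hx]
      · rw [Pi.single_eq_of_ne h, Function.update_of_ne h, zero_add]
    exact h1

theorem bij_sp {T S : Finset C} (i : C) (hT : i ∈ T) (hS : i ∉ S) :
    Function.Bijective (fun x : ℚ≥0 × MM (T.erase i) S =>
      sp (S := S) i hT x.1 + inc (T.erase_subset i) (Finset.Subset.refl S) x.2) :=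
  bij (sp i hT) (inc (T.erase_subset i) (Finset.Subset.refl S)) (fun q => (q : ℚ))
    NNRat.coe_injective (fun q hq => ⟨⟨q, hq hS⟩, rfl⟩) (fun _ => rfl) (fun _ => rfl)
    (Finset.insert_erase hT).symm (Finset.notMem_erase i T) (fun _ _ => Iff.rfl)

theorem bij_sq {T S S0 : Finset C} (i : C) (hT : i ∈ T) (hS : i ∈ S) (h0 : S0 ⊆ S)
    (h1 : S ⊆ insert i S0) :
    Function.Bijective (fun x : ℚ × MM (T.erase i) S0 =>
      sq i hT hS x.1 + inc (T.erase_subset i) h0 x.2) :=
  bij (sq i hT hS) (inc (T.erase_subset i) h0) (fun q => q)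
    Function.injective_id (fun q _ => ⟨q, rfl⟩) (fun _ => rfl) (fun _ => rfl)
    (Finset.insert_erase hT).symm (Finset.notMem_erase i T)
    (fun _ hj => ⟨fun h => h0 h, fun h => Finset.mem_of_mem_insert_of_ne (h1 h) hj⟩)

variable (k : Type u) [Field k]

/-- `ℚ≥0 ⟶ ℚ`. -/
abbrev cq : ℚ≥0 →+ ℚ := (NNRat.coeHom : ℚ≥0 →+* ℚ).toAddMonoidHom

/-- The step: extracting and inverting the coordinate `i`. -/
theorem isPullback_step {T S : Finset C} (i : C) (hT : i ∈ T) (hS : i ∉ S) :
    IsPullback (Dm k (inc (Finset.Subset.refl T) (Finset.subset_insert i S)))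
      (Dm k (sq i hT (Finset.mem_insert_self i S))) (Dm k (sp (S := S) i hT)) (Dm k cq) :=
  isPullback_of_sum k cq (sp (S := S) i hT) (inc (T.erase_subset i) (Finset.Subset.refl S))
    (sq i hT (Finset.mem_insert_self i S)) (inc (T.erase_subset i) (Finset.subset_insert i S))
    (inc (Finset.Subset.refl T) (Finset.subset_insert i S)) rfl rfl (bij_sp i hT hS)
    (bij_sq i hT (Finset.mem_insert_self i S) (Finset.subset_insert i S) (Finset.Subset.refl _))

/-- The coordinate `i ∉ S` is a base change of a structure morphism. -/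
theorem isPullback_coord {T S : Finset C} (i : C) (hT : i ∈ T) (hS : i ∉ S) :
    IsPullback (Dm k (sp (S := S) i hT))
      (Dm k (inc (T.erase_subset i) (Finset.Subset.refl S))) (str k ℚ≥0) (str k (MM (T.erase i) S)) :=
  isPullback_str k _ _ (bij_sp i hT hS)

theorem isPullback_coordQ {T S : Finset C} (i : C) (hT : i ∈ T) (hS : i ∈ S) :
    IsPullback (Dm k (sq i hT hS))
      (Dm k (inc (T.erase_subset i) (Finset.Subset.refl S))) (str k ℚ) (str k (MM (T.erase i) S)) :=
  isPullback_str k _ _ (bij_sq i hT hS (Finset.Subset.refl S) (Finset.subset_insert i S))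

end Groth.Agent.Sga7.H379.Mon
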